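import Mathlib.Algebra.Polynomial.Laurent
import Mathlib.RingTheory.TensorProduct.Maps
import Mathlib.Algebra.Polynomial.Splits
import Mathlib.RingTheory.Polynomial.Basic
import Mathlib.Tactic.LinearCombination
import Mathlib.GroupTheory.OrderOfElement
import Mathlib.SetTheory.Cardinal.Finite

/-!
Finite automorphism groups of a twisted form of `L[t, t⁻¹]`.
-/

set_option autoImplicit false

noncomputable section

universe u

open LaurentPolynomial
open scoped TensorProduct

namespace Groth.L15.PuncP1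

variable {L : Type u} [Field L]

theorem eq_C_mul_T_of_isUnit {x : L[T;T⁻¹]} (hx : IsUnit x) :
    ∃ (c : L) (n : ℤ), c ≠ 0 ∧ x = C c * T n := by
  obtain ⟨y, hy⟩ := hx.exists_right_inv
  obtain ⟨n, p, hp⟩ := exists_T_pow x
  obtain ⟨m, r, hr⟩ := exists_T_pow y
  have h1 : p * r = Polynomial.X ^ (n + m) := by
    apply Polynomial.toLaurent_injective
    rw [map_mul, hp, hr, Polynomial.toLaurent_X_pow, Nat.cast_add, T_add]
    linear_combination (T (n : ℤ) * T (m : ℤ)) * hy
  obtain ⟨i, -, hi⟩ := (dvd_prime_pow Polynomial.prime_X _).1 (Dvd.intro r h1 : p ∣ Polynomial.X ^ (n + m))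
  obtain ⟨w, hw⟩ := hi.symm
  obtain ⟨c, hc, hcw⟩ := Polynomial.isUnit_iff.1 w.isUnit
  refine ⟨c, (i : ℤ) - n, hc.ne_zero, ?_⟩
  have e : x = Polynomial.toLaurent p * T (-(n : ℤ)) := by
    rw [hp, mul_T_assoc, add_neg_cancel, T_zero, mul_one]
  rw [e, ← hw, ← hcw, map_mul, Polynomial.toLaurent_X_pow, Polynomial.toLaurent_C, T_sub]
  ring

theorem C_mul_T_inj {a b : L} {n m : ℤ} (ha : a ≠ 0) (h : C a * T n = C b * T m) :
    n = m ∧ a = b := by
  rw [← single_eq_C_mul_T, ← single_eq_C_mul_T] at h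
  rcases (Finsupp.single_eq_single_iff _ _ _ _).1 (congrArg AddMonoidAlgebra.coeff h) with h' | h'
  · exact h'
  · exact absurd h'.1 ha

variable {K : Type u} [Field K] [Algebra K L] {A : Type u} [CommRing A] [Algebra K A]

/-- The endomorphism `C ∘ σ`, `T ↦ T⁻¹`. -/
def tw (σ : L →ₐ[K] L) : L[T;T⁻¹] →+* L[T;T⁻¹] :=
  eval₂ (C.comp σ.toRingHom) ⟨T (-1), T 1, by rw [← T_add]; simp, by rw [← T_add]; simp⟩

theorem tw_C (σ : L →ₐ[K] L) (l : L) : tw σ (C l) = C (σ l) := eval₂_C ..

theorem tw_T_one (σ : L →ₐ[K] L) : tw σ (T 1) = T (-1) := by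
  rw [tw, eval₂_T, zpow_one]

theorem tw_T_neg_one (σ : L →ₐ[K] L) : tw σ (T (-1)) = T 1 := by
  rw [tw, eval₂_T, zpow_neg_one]
  rfl

/-- A finite group of automorphisms of a form of `L[t, t⁻¹]` twisted by `t ↦ t⁻¹`. -/
theorem core (hK : ∀ n : ℕ, 0 < n → (Polynomial.X ^ n - 1 : Polynomial K).Splits)
    (θ : L) (hL : ∀ l : L, ∃ a b : K, l = algebraMap K L a + algebraMap K L b * θ)
    (σ : L →ₐ[K] L) (hσ : σ θ ≠ θ)
    (φ : A →ₐ[K] L[T;T⁻¹]) (hφ : Function.Injective φ) (hfix : ∀ a, tw σ (φ a) = φ a)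
    (hT : ∀ e : ℤ, e = 1 ∨ e = -1 → ∃ a b : A, φ a + C θ * φ b = T e)
    (G : Subgroup (A ≃+* A)) [Finite G]
    (hG : ∀ g ∈ G, ∀ k : K, g (algebraMap K A k) = algebraMap K A k) :
    (∀ g ∈ G, g ^ 2 = 1) ∧ Nat.card G ≤ 4 := by
  classical
  let Φ : L ⊗[K] A →ₐ[L] L[T;T⁻¹] :=
    Algebra.TensorProduct.lift (Algebra.ofId L _) φ fun _ _ => Commute.all _ _
  have hΦt : ∀ (l : L) (a : A), Φ (l ⊗ₜ a) = C l * φ a := fun l a => rfl
  have hform : ∀ z : L ⊗[K] A, ∃ a b : A, z = (1 : L) ⊗ₜ a + θ ⊗ₜ b := by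
    intro z
    induction z with
    | zero => exact ⟨0, 0, by simp⟩
    | tmul l a =>
      obtain ⟨x, y, rfl⟩ := hL l
      refine ⟨x • a, y • a, ?_⟩
      rw [TensorProduct.add_tmul, ← Algebra.smul_def, TensorProduct.smul_tmul,
        Algebra.algebraMap_eq_smul_one, TensorProduct.smul_tmul]
    | add p q hp hq =>
      obtain ⟨a, b, rfl⟩ := hp
      obtain ⟨c, d, rfl⟩ := hq
      exact ⟨a + c, b + d, by rw [TensorProduct.tmul_add, TensorProduct.tmul_add]; abel⟩
  have hinj : Function.Injective Φ := by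
    rw [injective_iff_map_eq_zero]
    intro z hz
    obtain ⟨a, b, rfl⟩ := hform z
    rw [map_add, hΦt, hΦt, map_one, one_mul] at hz
    have hz' := congrArg (tw σ) hz
    rw [map_add, map_mul, tw_C, hfix, hfix, map_zero] at hz'
    have hb : C (θ - σ θ) * φ b = 0 := by rw [map_sub]; linear_combination hz - hz'
    have hu : IsUnit (C (θ - σ θ) : L[T;T⁻¹]) :=
      (IsUnit.mk0 _ (sub_ne_zero.2 (Ne.symm hσ))).map C
    have hb0 : b = 0 := hφ (by rw [map_zero]; exact hu.mul_right_eq_zero.1 hb)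
    subst hb0
    rw [map_zero, mul_zero, add_zero] at hz
    rw [show a = 0 from hφ (by rw [map_zero]; exact hz)]
    simp
  have hsurj : Function.Surjective Φ := by
    intro x
    have hTm : ∀ e : ℤ, e = 1 ∨ e = -1 → T e ∈ Φ.range := fun e he => by
      obtain ⟨a, b, h⟩ := hT e he
      exact ⟨(1 : L) ⊗ₜ a + θ ⊗ₜ b, by
        change Φ _ = _
        rw [map_add, hΦt, hΦt, map_one, one_mul, h]⟩
    have hCm : ∀ l : L, C l ∈ Φ.range := fun l => ⟨l ⊗ₜ 1, by
      change Φ _ = _
      rw [hΦt, map_one, mul_one]⟩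
    have hall : ∀ e : ℤ, T e ∈ Φ.range := by
      intro e
      induction e using Int.induction_on with
      | zero => rw [T_zero]; exact one_mem _
      | succ i ih => rw [T_add]; exact mul_mem ih (hTm 1 (Or.inl rfl))
      | pred i ih => rw [T_sub]; exact mul_mem ih (hTm (-1) (Or.inr rfl))
    have hx : x ∈ Φ.range := by
      induction x using LaurentPolynomial.induction_on' with
      | add p q hp hq => exact add_mem hp hq
      | C_mul_T n a => exact mul_mem (hCm a) (hall n)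
    exact hx
  let E := AlgEquiv.ofBijective Φ ⟨hinj, hsurj⟩
  let gA : G → (A →ₐ[K] A) := fun g => { (g.1 : A →+* A) with commutes' := hG g.1 g.2 }
  let Ψ : G → (L ⊗[K] A →ₐ[L] L[T;T⁻¹]) := fun g =>
    Algebra.TensorProduct.lift (Algebra.ofId L _) (φ.comp (gA g)) fun _ _ => Commute.all _ _
  let hat : G → (L[T;T⁻¹] →ₐ[L] L[T;T⁻¹]) := fun g => (Ψ g).comp E.symm.toAlgHom
  have hhat : ∀ g a, hat g (φ a) = φ (g.1 a) := by
    intro g a
    have e : E.symm (φ a) = (1 : L) ⊗ₜ a := E.symm_apply_eq.2 (by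
      exact ((hΦt 1 a).trans (by rw [map_one, one_mul])).symm)
    change Ψ g (E.symm (φ a)) = _
    rw [e]
    rw [Algebra.TensorProduct.lift_tmul, map_one, one_mul]
    rfl
  have hhatC : ∀ (f : L[T;T⁻¹] →ₐ[L] L[T;T⁻¹]) (l : L), f (C l) = C l := fun f l => by
    rw [C_eq_algebraMap]; exact f.commutes l
  have hext : ∀ f f' : L[T;T⁻¹] →ₐ[L] L[T;T⁻¹], (∀ a, f (φ a) = f' (φ a)) → f = f' := by
    intro f f' h
    refine AlgHom.ext fun x => ?_
    obtain ⟨z, rfl⟩ := hsurj x
    obtain ⟨a, b, rfl⟩ := hform z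
    simp only [map_add, hΦt, map_mul, h, hhatC]
  have hone : hat 1 = AlgHom.id L _ := hext _ _ fun a => hhat 1 a
  have hmul : ∀ g h, hat (g * h) = (hat g).comp (hat h) := fun g h => hext _ _ fun a =>
    (hhat (g * h) a).trans ((congrArg (hat g) (hhat h a)).trans (hhat g _)).symm
  have hfaith : ∀ g h, hat g = hat h → g = h := fun g h e =>
    Subtype.ext (RingEquiv.ext fun a => hφ (by rw [← hhat, ← hhat, e]))
  have hcomm : ∀ g x, hat g (tw σ x) = tw σ (hat g x) := by
    intro g x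
    obtain ⟨z, rfl⟩ := hsurj x
    obtain ⟨a, b, rfl⟩ := hform z
    simp only [map_add, hΦt, map_mul, tw_C, hfix, hhatC, hhat]
  -- the image of `T`
  have hval : ∀ g, ∃ (c : L) (n : ℤ), c ≠ 0 ∧ hat g (T 1) = C c * T n := fun g => by
    obtain ⟨c, n, hc, e⟩ := eq_C_mul_T_of_isUnit ((isUnit_T (R := L) 1).map (hat g))
    exact ⟨c, n, hc, e⟩
  choose c n hc hcn using hval
  have hinvT : ∀ g, hat g (T (-1)) = C (c g)⁻¹ * T (-n g) := by
    intro g
    have h1 : hat g (T 1) * hat g (T (-1)) = 1 := by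
      rw [← map_mul, ← T_add]; simp
    have h2 : (C (c g) * T (n g)) * (C (c g)⁻¹ * T (-n g)) = (1 : L[T;T⁻¹]) := by
      rw [mul_mul_mul_comm, ← map_mul, mul_inv_cancel₀ (hc g), map_one, one_mul, ← T_add,
        add_neg_cancel, T_zero]
    rw [hcn] at h1
    exact ((((IsUnit.mk0 _ (hc g)).map C).mul (isUnit_T _)).mul_right_inj).1 (h1.trans h2.symm)
  have hTn : ∀ g (m : ℤ), ∃ a : L, a ≠ 0 ∧ hat g (T m) = C a * T (n g * m) := by
    intro g m
    induction m using Int.induction_on with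
    | zero => exact ⟨1, one_ne_zero, by simp⟩
    | succ i ih =>
      obtain ⟨a, ha, e⟩ := ih
      exact ⟨a * c g, mul_ne_zero ha (hc g), by
        rw [T_add, map_mul, e, hcn, mul_mul_mul_comm, ← map_mul, ← T_add]; congr 2; ring⟩
    | pred i ih =>
      obtain ⟨a, ha, e⟩ := ih
      exact ⟨a * (c g)⁻¹, mul_ne_zero ha (inv_ne_zero (hc g)), by
        rw [T_sub, map_mul, e, hinvT, mul_mul_mul_comm, ← map_mul, ← T_add]; congr 2; ring⟩
  have hn : ∀ g, n g = 1 ∨ n g = -1 := by
    intro g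
    have h : hat g⁻¹ (hat g (T 1)) = T 1 := by
      rw [← AlgHom.comp_apply, ← hmul, inv_mul_cancel, hone]; rfl
    obtain ⟨a, ha, e⟩ := hTn g⁻¹ (n g)
    rw [hcn, map_mul, hhatC, e, ← mul_assoc, ← map_mul] at h
    have h2 := (C_mul_T_inj (mul_ne_zero (hc g) ha) (h.trans (by rw [map_one, one_mul] :
      T 1 = C (1 : L) * T 1))).1
    exact Int.eq_one_or_neg_one_of_mul_eq_one (by rw [mul_comm]; exact h2)
  have hpos : ∀ g, n g = 1 → c g ^ 2 = 1 := by
    intro g hg
    -- `σ c = c⁻¹`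
    have h1 := hcomm g (T 1)
    rw [tw_T_one, hinvT, hcn, map_mul, tw_C, hg, tw_T_one] at h1
    have h2 := (C_mul_T_inj (inv_ne_zero (hc g)) h1).2
    -- `c` is a root of unity
    have h3 : ∀ m : ℕ, hat (g ^ m) (T 1) = C (c g ^ m) * T 1 := by
      intro m
      induction m with
      | zero => rw [pow_zero, hone, pow_zero, map_one, one_mul]; rfl
      | succ m ih =>
        rw [pow_succ', hmul, AlgHom.comp_apply, ih, map_mul, hhatC, hcn, hg, pow_succ, map_mul,
          mul_assoc]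
    have h4 := h3 (orderOf g)
    rw [pow_orderOf_eq_one, hone, AlgHom.id_apply] at h4
    have h5 : (1 : L) = c g ^ orderOf g :=
      (C_mul_T_inj one_ne_zero (show C (1 : L) * T 1 = _ by rw [map_one, one_mul]; exact h4)).2
    have hN : 0 < orderOf g := orderOf_pos g
    obtain ⟨d, hd⟩ := (hK _ hN).mem_range_of_isRoot (i := algebraMap K L) (x := c g)
      (by simpa using Polynomial.X_pow_sub_C_ne_zero hN (1 : K))
      (by simp [← h5])
    rw [← hd, σ.commutes, hd] at h2
    rw [sq]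
    exact (mul_eq_one_iff_eq_inv₀ (hc g)).2 h2.symm
  have hneg : ∀ g, n g = -1 → hat g (hat g (T 1)) = T 1 := by
    intro g hg
    rw [hcn, map_mul, hhatC, hg, hinvT, hg, neg_neg, ← mul_assoc, ← map_mul,
      mul_inv_cancel₀ (hc g), map_one, one_mul]
  have hextT : ∀ g h, hat g (T 1) = hat h (T 1) → g = h := by
    intro g h e
    refine hfaith g h (AlgHom.ext fun x => ?_)
    induction x using LaurentPolynomial.induction_on' with
    | add p q hp hq => rw [map_add, map_add, hp, hq]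
    | C_mul_T m a =>
      rw [map_mul, map_mul, hhatC, hhatC]
      congr 1
      have e' : hat g (T (-1)) = hat h (T (-1)) := by
        have hu := (isUnit_T (R := L) 1).map (hat g)
        refine hu.mul_right_inj.1 ?_
        conv_rhs => rw [e]
        rw [← map_mul, ← map_mul, ← T_add]; simp
      induction m using Int.induction_on with
      | zero => simp
      | succ i ih => rw [T_add, map_mul, map_mul, ih, e]
      | pred i ih => rw [T_sub, map_mul, map_mul, ih, e']
  constructor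
  · intro g hg
    have h : (⟨g, hg⟩ : G) ^ 2 = 1 := by
      refine hextT _ _ ?_
      rw [hone, AlgHom.id_apply, sq, hmul, AlgHom.comp_apply]
      rcases hn ⟨g, hg⟩ with h | h
      · rw [hcn, map_mul, hhatC, h, hcn, h, ← mul_assoc, ← map_mul, ← sq, hpos _ h, map_one, one_mul]
      · exact hneg _ h
    exact congrArg Subtype.val h
  · let c₀ : L := if h : ∃ g, n g = -1 then c h.choose else 1
    have hall : ∀ g, hat g (T 1) ∈ ({C 1 * T 1, C (-1) * T 1, C c₀ * T (-1), C (-c₀) * T (-1)} :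
        Finset L[T;T⁻¹]) := by
      intro g
      rw [hcn]
      rcases hn g with h | h
      · rcases sq_eq_one_iff.1 (hpos g h) with e | e <;> simp [h, e]
      · have hex : ∃ g, n g = -1 := ⟨g, h⟩
        have hc₀ : c₀ = c hex.choose := dif_pos hex
        let g₀ := hex.choose
        have h0 : n g₀ = -1 := hex.choose_spec
        have hp : hat (g₀ * g) (T 1) = C (c g * (c g₀)⁻¹) * T 1 := by
          rw [hmul, AlgHom.comp_apply, hcn, map_mul, hhatC, h, hinvT, h0, neg_neg, map_mul, mul_assoc]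
        rw [hcn] at hp
        obtain ⟨h1, h2⟩ := C_mul_T_inj (hc _) hp
        have h3 := hpos _ h1
        rw [h2] at h3
        rcases sq_eq_one_iff.1 h3 with e | e
        · have : c g = c₀ := by rw [hc₀]; exact (mul_inv_eq_one₀ (hc g₀)).1 e
          simp [h, this]
        · have : c g = -c₀ := by
            rw [hc₀, ← mul_inv_cancel_right₀ (inv_ne_zero (hc g₀)) (c g), inv_inv, e, neg_one_mul]
          simp [h, this]
    calc Nat.card G ≤ Nat.card ({C 1 * T 1, C (-1) * T 1, C c₀ * T (-1), C (-c₀) * T (-1)} :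
          Finset L[T;T⁻¹]) :=
          Nat.card_le_card_of_injective (fun g => ⟨hat g (T 1), hall g⟩) fun g h e =>
            hextT g h (congrArg Subtype.val e)
      _ ≤ 4 := by
          rw [Nat.card_eq_finsetCard]
          refine (Finset.card_insert_le _ _).trans (Nat.succ_le_succ ?_)
          refine (Finset.card_insert_le _ _).trans (Nat.succ_le_succ ?_)
          exact (Finset.card_insert_le _ _).trans (by simp)

end Groth.L15.PuncP1
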