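import Groth.Agent.L15.PuncP1.Core
import Mathlib.RingTheory.GradedAlgebra.HomogeneousLocalization
import Mathlib.RingTheory.MvPolynomial.Homogeneous
import Mathlib.RingTheory.AdjoinRoot
import Mathlib.FieldTheory.SeparableDegree
import Mathlib.Algebra.Polynomial.SpecificDegree

/-!
The coordinate ring of the projective line minus a conjugate pair of points, inside `L[t, t⁻¹]`.
-/

set_option autoImplicit false

noncomputable section

universe u

open LaurentPolynomial

attribute [local instance] MvPolynomial.gradedAlgebra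

namespace Groth.L15.PuncP1

variable {K : Type u} [Field K] {L : Type u} [Field L] [Algebra K L]

theorem deg_eq {R : Type u} [CommSemiring R] {d : ℕ} {f : MvPolynomial (Fin 2) R}
    (hf : f.IsHomogeneous d) {m : Fin 2 →₀ ℕ} (hm : f.coeff m ≠ 0) : m.degree = d := by
  have := hf hm
  rwa [Finsupp.degree_eq_weight_one]

theorem aeval_scale {S : Type u} [CommRing S] [Algebra K S] {d : ℕ} {f : MvPolynomial (Fin 2) K}
    (hf : f.IsHomogeneous d) (s : S) (z : Fin 2 → S) :
    MvPolynomial.aeval (fun i => s * z i) f = s ^ d * MvPolynomial.aeval z f := by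
  rw [f.as_sum]
  simp only [map_sum, Finset.mul_sum, MvPolynomial.aeval_monomial]
  refine Finset.sum_congr rfl fun m hm => ?_
  have hd : m.degree = d := deg_eq hf (MvPolynomial.mem_support_iff.1 hm)
  rw [Finsupp.prod, Finsupp.prod]
  simp only [mul_pow]
  rw [Finset.prod_mul_distrib, Finset.prod_pow_eq_pow_sum,
    show ∑ i ∈ m.support, m i = d from hd]
  ring

theorem eq_zero_of_aeval_one {d : ℕ} {h : MvPolynomial (Fin 2) L} (hh : h.IsHomogeneous d)
    (h0 : MvPolynomial.aeval ![Polynomial.X, 1] h = (0 : Polynomial L)) : h = 0 := by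
  classical
  ext m
  rw [MvPolynomial.coeff_zero]
  by_contra hm
  have hc := congrArg (fun p => Polynomial.coeff p (m 0)) h0
  rw [h.as_sum] at hc
  simp only [map_sum, Polynomial.finset_sum_coeff, Polynomial.coeff_zero] at hc
  rw [Finset.sum_eq_single m] at hc
  · apply hm
    simpa [MvPolynomial.aeval_monomial, Finsupp.prod_fintype, Fin.prod_univ_two,
      ← Polynomial.C_eq_algebraMap] using hc
  · intro m' hm' hne
    have h1 : m' 0 + m' 1 = d := by
      rw [← deg_eq hh (MvPolynomial.mem_support_iff.1 hm'), Finsupp.degree_eq_sum,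
        Fin.sum_univ_two]
    have h2 : m 0 + m 1 = d := by
      rw [← deg_eq hh hm, Finsupp.degree_eq_sum, Fin.sum_univ_two]
    have : m' 0 ≠ m 0 := fun e => hne (Finsupp.ext fun i => by
      fin_cases i
      · exact e
      · simp only [Fin.mk_one]; omega)
    simp [MvPolynomial.aeval_monomial, Finsupp.prod_fintype, Fin.prod_univ_two,
      ← Polynomial.C_eq_algebraMap, this.symm]
  · intro h; exact absurd (MvPolynomial.mem_support_iff.2 hm) h

theorem decompose_quadratic {q : MvPolynomial (Fin 2) K} (hq : q.IsHomogeneous 2) :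
    q = MvPolynomial.C (q.coeff (Finsupp.single 0 2)) * MvPolynomial.X 0 ^ 2 +
      MvPolynomial.C (q.coeff (Finsupp.single 0 1 + Finsupp.single 1 1)) *
        (MvPolynomial.X 0 * MvPolynomial.X 1) +
      MvPolynomial.C (q.coeff (Finsupp.single 1 2)) * MvPolynomial.X 1 ^ 2 := by
  classical
  ext m
  simp only [MvPolynomial.X_pow_eq_monomial]
  simp only [MvPolynomial.X, MvPolynomial.monomial_mul,
    MvPolynomial.C_mul_monomial, MvPolynomial.coeff_add, MvPolynomial.coeff_monomial, mul_one]
  by_cases hm : q.coeff m = 0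
  · rw [hm]
    split_ifs <;> subst_vars <;> simp_all
  · have h1 : m 0 + m 1 = 2 := by
      have h' := deg_eq hq hm
      rwa [Finsupp.degree_eq_sum, Fin.sum_univ_two] at h'
    have h2 : m = Finsupp.single 0 (m 0) + Finsupp.single 1 (m 1) := by
      ext i
      fin_cases i <;> simp
    have n1 : (Finsupp.single 0 2 : Fin 2 →₀ ℕ) ≠ Finsupp.single 0 1 + Finsupp.single 1 1 := by
      simp [Finsupp.ext_iff, Fin.forall_fin_two]
    have n2 : (Finsupp.single 0 2 : Fin 2 →₀ ℕ) ≠ Finsupp.single 1 2 := by
      simp [Finsupp.ext_iff, Fin.forall_fin_two]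
    have n3 : (Finsupp.single 0 1 + Finsupp.single 1 1 : Fin 2 →₀ ℕ) ≠ Finsupp.single 1 2 := by
      simp [Finsupp.ext_iff, Fin.forall_fin_two]
    rcases (show (m 0 = 2 ∧ m 1 = 0) ∨ (m 0 = 1 ∧ m 1 = 1) ∨ (m 0 = 0 ∧ m 1 = 2) by omega) with
      ⟨e0, e1⟩ | ⟨e0, e1⟩ | ⟨e0, e1⟩ <;>
    · rw [e0, e1] at h2
      try simp only [Finsupp.single_zero, add_zero, zero_add] at h2
      clear e0 e1 h1 hm
      subst h2
      simp [n1, n2, n3, n1.symm, n2.symm, n3.symm]

/-- A binary quadratic form with a linear factor of the given shape is reducible. -/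
theorem not_irreducible_of_eq_mul {q : MvPolynomial (Fin 2) K}
    (f g : MvPolynomial (Fin 2) K) (hf : MvPolynomial.constantCoeff f = 0)
    (hg : MvPolynomial.constantCoeff g = 0) (h : q = f * g) : ¬ Irreducible q := by
  intro hirr
  rcases hirr.isUnit_or_isUnit h with hu | hu
  · exact (hu.map MvPolynomial.constantCoeff).ne_zero hf
  · exact (hu.map MvPolynomial.constantCoeff).ne_zero hg

theorem eq_zero_of_ev (θ θ' : L) (hd : θ' - θ ≠ 0) {d : ℕ} {h : MvPolynomial (Fin 2) K}
    (hh : h.IsHomogeneous d)
    (h0 : MvPolynomial.aeval ![(T 1 : L[T;T⁻¹]) + C θ * ((T 1 - 1) * C (θ' - θ)⁻¹),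
      (T 1 - 1) * C (θ' - θ)⁻¹] h = 0) : h = 0 := by
  let z : Fin 2 → MvPolynomial (Fin 2) L :=
    ![MvPolynomial.X 0 + MvPolynomial.C θ * (MvPolynomial.C (θ' - θ)⁻¹ *
        (MvPolynomial.X 0 - MvPolynomial.X 1)),
      MvPolynomial.C (θ' - θ)⁻¹ * (MvPolynomial.X 0 - MvPolynomial.X 1)]
  have hz : ∀ i, (z i).IsHomogeneous 1 := by
    have hl : (MvPolynomial.C (θ' - θ)⁻¹ * (MvPolynomial.X 0 - MvPolynomial.X 1) :
        MvPolynomial (Fin 2) L).IsHomogeneous 1 :=
      ((MvPolynomial.isHomogeneous_X _ _).sub (MvPolynomial.isHomogeneous_X _ _)).C_mul _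
    intro i
    fin_cases i
    · exact (MvPolynomial.isHomogeneous_X _ _).add (hl.C_mul _)
    · exact hl
  have h1 : MvPolynomial.aeval z h = 0 := by
    refine eq_zero_of_aeval_one (d := 1 * d) (hh.aeval z hz) (Polynomial.toLaurent_injective ?_)
    rw [map_zero, ← h0]
    let P : Polynomial L →ₐ[K] L[T;T⁻¹] := (Polynomial.toLaurentAlg (R := L)).restrictScalars K
    let Q : MvPolynomial (Fin 2) L →ₐ[K] Polynomial L :=
      (MvPolynomial.aeval ![Polynomial.X, 1]).restrictScalars K
    change P (Q (MvPolynomial.aeval z h)) = _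
    rw [MvPolynomial.comp_aeval_apply, MvPolynomial.comp_aeval_apply]
    refine congrArg (fun t => MvPolynomial.aeval t h) (funext fun i => ?_)
    fin_cases i <;> simp [z, P, Q, ← Polynomial.C_eq_algebraMap] <;> first | exact Or.inl (by ring) | ring1
  let w : Fin 2 → MvPolynomial (Fin 2) L :=
    ![MvPolynomial.X 0 - MvPolynomial.C θ * MvPolynomial.X 1,
      MvPolynomial.X 0 - MvPolynomial.C θ' * MvPolynomial.X 1]
  have h2 := congrArg ((MvPolynomial.aeval w).restrictScalars K) h1
  rw [map_zero, MvPolynomial.comp_aeval_apply] at h2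
  have hone : (MvPolynomial.C (θ' - θ)⁻¹ * (MvPolynomial.C θ' - MvPolynomial.C θ) :
      MvPolynomial (Fin 2) L) = 1 := by
    rw [← map_sub, ← map_mul, inv_mul_cancel₀ hd, map_one]
  refine MvPolynomial.map_injective (algebraMap K L) (algebraMap K L).injective ?_
  rw [map_zero, ← h2, MvPolynomial.map_eq_eval₂Hom_C_comp, MvPolynomial.aeval_def]
  change MvPolynomial.eval₂ _ _ h = MvPolynomial.eval₂ _ _ h
  congr 1
  funext i
  fin_cases i <;>
    simp [z, w] <;>
    first
    | linear_combination (MvPolynomial.C θ * MvPolynomial.X 1 : MvPolynomial (Fin 2) L) * hone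
    | linear_combination (-(MvPolynomial.C θ * MvPolynomial.X 1) : MvPolynomial (Fin 2) L) * hone
    | linear_combination (MvPolynomial.X 1 : MvPolynomial (Fin 2) L) * hone
    | linear_combination (-MvPolynomial.X 1 : MvPolynomial (Fin 2) L) * hone

set_option maxHeartbeats 1000000 in
theorem main (hK : ∀ n : ℕ, 0 < n → (Polynomial.X ^ n - 1 : Polynomial K).Splits)
    (q : MvPolynomial (Fin 2) K) (hq : q.IsHomogeneous 2) (hirr : Irreducible q)
    (hdisc : (q.coeff (Finsupp.single 0 1 + Finsupp.single 1 1)) ^ 2 -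
      4 * q.coeff (Finsupp.single 0 2) * q.coeff (Finsupp.single 1 2) ≠ 0)
    (G : Subgroup (HomogeneousLocalization.Away (MvPolynomial.homogeneousSubmodule (Fin 2) K) q ≃+*
      HomogeneousLocalization.Away (MvPolynomial.homogeneousSubmodule (Fin 2) K) q)) [Finite G]
    (hG : ∀ g ∈ G, ∀ (k : K)
      (z : HomogeneousLocalization.Away (MvPolynomial.homogeneousSubmodule (Fin 2) K) q),
        g (k • z) = k • g z) :
    (∀ g ∈ G, g ^ 2 = 1) ∧ Nat.card G ≤ 4 := by
  classical
  set a := q.coeff (Finsupp.single 0 2) with ha'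
  set b := q.coeff (Finsupp.single 0 1 + Finsupp.single 1 1) with hb'
  set c := q.coeff (Finsupp.single 1 2) with hc'
  have hdec := decompose_quadratic hq
  rw [← ha', ← hb', ← hc'] at hdec
  have ha : a ≠ 0 := by
    intro h
    refine not_irreducible_of_eq_mul (MvPolynomial.X 1)
      (MvPolynomial.C b * MvPolynomial.X 0 + MvPolynomial.C c * MvPolynomial.X 1)
      (by simp) (by simp) ?_ hirr
    rw [hdec, h, map_zero]; ring
  have hnoroot : ∀ r : K, a * r ^ 2 + b * r + c ≠ 0 := by
    intro r hr
    refine not_irreducible_of_eq_mul (MvPolynomial.X 0 - MvPolynomial.C r * MvPolynomial.X 1)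
      (MvPolynomial.C a * MvPolynomial.X 0 + MvPolynomial.C (a * r + b) * MvPolynomial.X 1)
      (by simp) (by simp) ?_ hirr
    rw [hdec, show c = -(a * r ^ 2 + b * r) by linear_combination hr]
    simp only [map_neg, map_add, map_mul, map_pow]
    ring
  let f : Polynomial K := Polynomial.X ^ 2 + Polynomial.C (b / a) * Polynomial.X + Polynomial.C (c / a)
  have hfdeg : f.natDegree = 2 := by simp only [f]; compute_degree!
  have hfmonic : f.Monic := by simp only [f]; monicity!
  haveI hf : Fact (Irreducible f) := ⟨by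
    rw [Polynomial.irreducible_iff_roots_eq_zero_of_degree_le_three (by omega) (by omega),
      Multiset.eq_zero_iff_forall_notMem]
    intro r hr
    rw [Polynomial.mem_roots hfmonic.ne_zero] at hr
    refine hnoroot r ?_
    simp [f, Polynomial.IsRoot] at hr
    field_simp at hr
    linear_combination hr⟩
  let L := AdjoinRoot f
  let θ : L := AdjoinRoot.root f
  let θ' : L := -algebraMap K L (b / a) - θ
  have hθ : θ ^ 2 + algebraMap K L (b / a) * θ + algebraMap K L (c / a) = 0 := by
    have h := AdjoinRoot.eval₂_root f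
    simp [f] at h
    simpa [θ, L, AdjoinRoot.algebraMap_eq] using h
  have hL : ∀ l : L, ∃ x y : K, l = algebraMap K L x + algebraMap K L y * θ := by
    intro l
    obtain ⟨p, rfl⟩ := AdjoinRoot.mk_surjective l
    refine ⟨(p %ₘ f).coeff 0, (p %ₘ f).coeff 1, ?_⟩
    have h1 : AdjoinRoot.mk f p = AdjoinRoot.mk f (p %ₘ f) := by
      conv_lhs => rw [← Polynomial.modByMonic_add_div p f]
      simp
    have hd : (p %ₘ f).natDegree ≤ 1 := by
      have := Polynomial.natDegree_modByMonic_lt p hfmonic
        (fun h => by rw [h, Polynomial.natDegree_one] at hfdeg; omega)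
      omega
    rw [h1, ← AdjoinRoot.aeval_eq, Polynomial.eq_X_add_C_of_natDegree_le_one hd]
    simp [θ, L, AdjoinRoot.algebraMap_eq]
    ring
  have hne : θ' ≠ θ := by
    intro h
    have h2 : 2 * θ = -algebraMap K L (b / a) := by linear_combination -h
    by_cases h20 : (2 : K) = 0
    · have hb : b ≠ 0 := fun hb => hdisc (by
        rw [hb]; linear_combination (-(2 * a * c)) * h20)
      have h20' : (2 : L) = 0 := by rw [← map_ofNat (algebraMap K L) 2, h20, map_zero]
      rw [h20', zero_mul, eq_comm, neg_eq_zero, map_eq_zero, div_eq_zero_iff] at h2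
      exact h2.elim hb ha
    · have h20' : (2 : L) ≠ 0 := by
        rw [← map_ofNat (algebraMap K L) 2]; exact (map_ne_zero _).2 h20
      have hθK : θ = algebraMap K L (-(b / a) / 2) := by
        rw [map_div₀, map_neg, map_ofNat, eq_div_iff h20']
        linear_combination h2
      refine hnoroot (-(b / a) / 2) ?_
      have h3 : algebraMap K L ((-(b / a) / 2) ^ 2 + b / a * (-(b / a) / 2) + c / a) = 0 := by
        rw [map_add, map_add, map_mul, map_pow, ← hθK]; exact hθ
      rw [map_eq_zero] at h3
      field_simp at h3 ⊢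
      linear_combination h3
  let σ : L →ₐ[K] L := AdjoinRoot.liftAlgHom f (Algebra.ofId K L) θ' (by
    simp [f, θ', Algebra.ofId_apply, map_div₀]
    rw [map_div₀, map_div₀] at hθ
    linear_combination hθ)
  have hσθ : σ θ = θ' := AdjoinRoot.liftAlgHom_root ..
  have hσθ' : σ θ' = θ := by
    simp only [θ', map_sub, map_neg, σ.commutes, hσθ]
    ring
  -- the parametrisation
  have hd : θ' - θ ≠ 0 := sub_ne_zero.2 hne
  let δ : L[T;T⁻¹] := C (θ' - θ)⁻¹
  let Y : L[T;T⁻¹] := (T 1 - 1) * δ
  let X : L[T;T⁻¹] := T 1 + C θ * Y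
  let ev : MvPolynomial (Fin 2) K →ₐ[K] L[T;T⁻¹] := MvPolynomial.aeval ![X, Y]
  have hC : ∀ k : K, algebraMap K L[T;T⁻¹] k = C (algebraMap K L k) := fun k => by
    rw [IsScalarTower.algebraMap_apply K L L[T;T⁻¹]]; rfl
  have hδ : δ * (C θ' - C θ) = (1 : L[T;T⁻¹]) := by
    rw [← map_sub, ← map_mul, inv_mul_cancel₀ hd, map_one]
  have hX' : X - C θ' * Y = 1 := by
    simp only [X, Y]
    linear_combination -(T 1 - 1) * hδ
  have hevq : ev q = C (algebraMap K L a) * T 1 := by
    have e : ev q = C (algebraMap K L a) * X ^ 2 + C (algebraMap K L b) * (X * Y) +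
        C (algebraMap K L c) * Y ^ 2 := by
      rw [hdec]; simp [ev, hC]
    have hsum : algebraMap K L b = -(algebraMap K L a) * (θ + θ') := by
      rw [show θ + θ' = -(algebraMap K L (b / a)) by simp only [θ']; ring, neg_mul_neg, ← map_mul,
        mul_div_cancel₀ b ha]
    have hprod : algebraMap K L c = algebraMap K L a * (θ * θ') := by
      rw [show θ * θ' = algebraMap K L (c / a) by simp only [θ']; linear_combination -hθ, ← map_mul,
        mul_div_cancel₀ c ha]
    rw [e, hsum, hprod]
    simp only [map_mul, map_neg, map_add]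
    calc _ = C (algebraMap K L a) * ((X - C θ * Y) * (X - C θ' * Y)) := by ring
      _ = _ := by rw [hX', mul_one]; simp only [X]; ring
  have hqu : IsUnit (ev q) := by
    rw [hevq]
    exact ((IsUnit.mk0 _ ((map_ne_zero _).2 ha)).map C).mul (isUnit_T 1)
  have hinj : ∀ (d : ℕ) (h : MvPolynomial (Fin 2) K), h.IsHomogeneous d → ev h = 0 → h = 0 :=
    fun d h hh h0 => eq_zero_of_ev θ θ' hd hh h0
  -- the ring map on the coordinate ring
  have hq' : q ∈ MvPolynomial.homogeneousSubmodule (Fin 2) K 2 := hq
  let φ₀ : HomogeneousLocalization.Away (MvPolynomial.homogeneousSubmodule (Fin 2) K) q →+*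
      L[T;T⁻¹] :=
    (IsLocalization.Away.lift (S := Localization.Away q) q (g := ev.toRingHom) hqu).comp
      (algebraMap _ (Localization.Away q))
  have hφmk : ∀ (n : ℕ) (x : MvPolynomial (Fin 2) K)
      (hx : x ∈ MvPolynomial.homogeneousSubmodule (Fin 2) K (n • 2)),
      φ₀ (HomogeneousLocalization.Away.mk _ hq' n x hx) * ev q ^ n = ev x := by
    intro n x hx
    have e : (HomogeneousLocalization.Away.mk _ hq' n x hx).val *
        algebraMap _ (Localization.Away q) q ^ n = algebraMap _ (Localization.Away q) x := by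
      rw [HomogeneousLocalization.Away.val_mk, ← map_pow, Localization.mk_eq_mk',
        IsLocalization.mk'_spec (S := Localization (Submonoid.powers q)) x (⟨q ^ n, n, rfl⟩ : Submonoid.powers q)]
    have e2 := congrArg (IsLocalization.Away.lift (S := Localization.Away q) q (g := ev.toRingHom) hqu) e
    rw [map_mul, map_pow, IsLocalization.Away.lift_eq, IsLocalization.Away.lift_eq] at e2
    exact e2
  have hinj' : Function.Injective φ₀ := by
    rw [injective_iff_map_eq_zero]
    intro z hz
    obtain ⟨n, x, hx, rfl⟩ := HomogeneousLocalization.Away.mk_surjective _ hq' z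
    have h0 : ev x = 0 := by rw [← hφmk n x hx, hz, zero_mul]
    apply HomogeneousLocalization.val_injective
    rw [HomogeneousLocalization.Away.val_mk, HomogeneousLocalization.val_zero,
      hinj _ x hx h0, Localization.mk_zero]
  let φK : K →+* HomogeneousLocalization.Away (MvPolynomial.homogeneousSubmodule (Fin 2) K) q :=
    { toFun := fun k => HomogeneousLocalization.Away.mk _ hq' 0 (MvPolynomial.C k)
        (by rw [zero_smul]; exact MvPolynomial.isHomogeneous_C _ k)
      map_one' := HomogeneousLocalization.val_injective _ (by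
        simp [← Localization.mk_one, pow_zero])
      map_mul' := fun x y => HomogeneousLocalization.val_injective _ (by
        simp [Localization.mk_mul])
      map_zero' := HomogeneousLocalization.val_injective _ (by simp [Localization.mk_zero])
      map_add' := fun x y => HomogeneousLocalization.val_injective _ (by
        simp [Localization.add_mk_self]) }
  letI algA := φK.toAlgebra
  have hsmul : ∀ k : K, k • (1 : HomogeneousLocalization.Away
      (MvPolynomial.homogeneousSubmodule (Fin 2) K) q) = φK k := by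
    intro k
    apply HomogeneousLocalization.val_injective
    rw [HomogeneousLocalization.val_smul, HomogeneousLocalization.val_one, ← Localization.mk_one,
      Localization.smul_mk, MvPolynomial.smul_eq_C_mul, mul_one]
    simp [φK]
    rfl
  have hφK : ∀ k : K, φ₀ (φK k) = algebraMap K L[T;T⁻¹] k := fun k => by
    have h := hφmk 0 (MvPolynomial.C k) (by rw [zero_smul]; exact MvPolynomial.isHomogeneous_C _ k)
    rw [pow_zero, mul_one] at h
    exact h.trans (MvPolynomial.aeval_C _ k)
  let φ : HomogeneousLocalization.Away (MvPolynomial.homogeneousSubmodule (Fin 2) K) q →ₐ[K]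
      L[T;T⁻¹] := { φ₀ with commutes' := hφK }
  -- the semilinear involution fixes the image
  have htwev : ∀ (d : ℕ) (x : MvPolynomial (Fin 2) K), x.IsHomogeneous d →
      tw σ (ev x) = T (-1) ^ d * ev x := by
    intro d x hx
    rw [← aeval_scale hx]
    have hY : tw σ Y = T (-1) * Y := by
      have e : (θ - θ')⁻¹ = -(θ' - θ)⁻¹ := by rw [← inv_neg, neg_sub]
      simp only [Y, δ, map_mul, map_sub, map_one, tw_T_one, tw_C, map_inv₀, hσθ, hσθ', e, map_neg]
      have h1 : (T (-1) * T 1 : L[T;T⁻¹]) = 1 := by rw [← T_add]; simp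
      linear_combination (-C (θ' - θ)⁻¹) * h1
    have hXt : tw σ X = T (-1) * X := by
      have e : X = T 1 + C θ * Y := rfl
      have h1 : (T (-1) * T 1 : L[T;T⁻¹]) = 1 := by rw [← T_add]; simp
      calc tw σ X = T (-1) + C θ' * (T (-1) * Y) := by
            rw [e, map_add, map_mul, tw_T_one, tw_C, hσθ, hY]
        _ = T (-1) * X := by linear_combination (-T (-1)) * hX'
    have h2 : (tw σ).comp ev.toRingHom =
        (MvPolynomial.aeval (R := K) fun i => T (-1) * ![X, Y] i).toRingHom := by
      refine MvPolynomial.ringHom_ext (fun k => ?_) fun i => ?_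
      · simp [ev, hC, tw_C]
      · fin_cases i <;> simp [ev, hY, hXt]
    exact RingHom.congr_fun h2 x
  have hfix : ∀ z, tw σ (φ z) = φ z := by
    intro z
    obtain ⟨n, x, hx, rfl⟩ := HomogeneousLocalization.Away.mk_surjective _ hq' z
    have h := hφmk n x hx
    have h1 := congrArg (tw σ) h
    rw [map_mul, map_pow, htwev 2 q hq, htwev (n • 2) x hx, ← h, mul_pow, ← pow_mul, smul_eq_mul,
      mul_comm n 2] at h1
    have hu : IsUnit (T (-1) ^ (2 * n) * ev q ^ n : L[T;T⁻¹]) :=
      ((isUnit_T _).pow _).mul (hqu.pow _)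
    exact hu.mul_left_inj.1 (by
      change _ = φ₀ _ * _
      linear_combination h1)
  have hquad : ∀ u v w : K, (MvPolynomial.C u * MvPolynomial.X (0 : Fin 2) ^ 2 +
      MvPolynomial.C v * (MvPolynomial.X 0 * MvPolynomial.X 1) +
      MvPolynomial.C w * MvPolynomial.X 1 ^ 2 : MvPolynomial (Fin 2) K) ∈
        MvPolynomial.homogeneousSubmodule (Fin 2) K (1 • 2) := fun u v w => by
    rw [one_smul]
    exact (((MvPolynomial.isHomogeneous_X_pow _ _).C_mul _).add
      (((MvPolynomial.isHomogeneous_X _ _).mul (MvPolynomial.isHomogeneous_X _ _)).C_mul _)).add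
        ((MvPolynomial.isHomogeneous_X_pow _ _).C_mul _)
  have hval : ∀ u v w : K, φ (HomogeneousLocalization.Away.mk _ hq' 1 _ (hquad u v w)) *
      (C (algebraMap K L a) * T 1) = C (algebraMap K L u) * X ^ 2 +
        C (algebraMap K L v) * (X * Y) + C (algebraMap K L w) * Y ^ 2 := by
    intro u v w
    have h := hφmk 1 _ (hquad u v w)
    rw [pow_one, hevq] at h
    refine h.trans ?_
    simp [ev, hC]
  have hua : IsUnit (C (algebraMap K L a) * T 1 : L[T;T⁻¹]) := by rw [← hevq]; exact hqu
  have hA : (algebraMap K L a) * algebraMap K L (b / a) = algebraMap K L b := by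
    rw [← map_mul, mul_div_cancel₀ b ha]
  have hA' : (algebraMap K L a) * algebraMap K L (c / a) = algebraMap K L c := by
    rw [← map_mul, mul_div_cancel₀ c ha]
  have h1T : (T (-1) * T 1 : L[T;T⁻¹]) = 1 := by rw [← T_add]; simp
  have hθC : C (algebraMap K L a) * C θ ^ 2 + C (algebraMap K L b) * C θ +
      C (algebraMap K L c) = (0 : L[T;T⁻¹]) := by
    rw [← map_pow, ← map_mul, ← map_mul, ← map_add, ← map_add,
      show algebraMap K L a * θ ^ 2 + algebraMap K L b * θ + algebraMap K L c = 0 by
        linear_combination (algebraMap K L a) * hθ - θ * hA - hA', map_zero]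
  have hT : ∀ e : ℤ, e = 1 ∨ e = -1 → ∃ u v, φ u + C θ * φ v = T e := by
    rintro e (rfl | rfl)
    · refine ⟨HomogeneousLocalization.Away.mk _ hq' 1 _ (hquad a 0 (-c)),
        HomogeneousLocalization.Away.mk _ hq' 1 _ (hquad 0 (-2 * a) (-b)), hua.mul_left_inj.1 ?_⟩
      rw [add_mul, mul_assoc, hval, hval]
      simp only [map_zero, map_neg, map_mul, map_ofNat, zero_mul, add_zero, zero_add]
      have e1 : X - C θ * Y = T 1 := by simp only [X]; ring
      linear_combination (C (algebraMap K L a) * (X - C θ * Y) + C (algebraMap K L a) * T 1) * e1 -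
        Y ^ 2 * hθC
    · refine ⟨HomogeneousLocalization.Away.mk _ hq' 1 _ (hquad a (2 * b) (b * b / a - c)),
        HomogeneousLocalization.Away.mk _ hq' 1 _ (hquad 0 (2 * a) b), hua.mul_left_inj.1 ?_⟩
      rw [add_mul, mul_assoc, hval, hval]
      have e2 : C (algebraMap K L (b * b / a - c)) =
          C (algebraMap K L b) * C (algebraMap K L (b / a)) - C (algebraMap K L c) := by
        rw [← map_mul, ← map_sub, ← map_mul, ← map_sub, mul_div_assoc]
      have e3 : C (algebraMap K L a) * C (algebraMap K L (b / a)) = C (algebraMap K L b) := by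
        rw [← map_mul, hA]
      have e4 : C θ' = -C (algebraMap K L (b / a)) - C θ := by
        simp only [θ', map_sub, map_neg]
      rw [e2]
      simp only [map_zero, map_mul, map_ofNat, zero_mul, zero_add]
      rw [e4] at hX'
      linear_combination (C (algebraMap K L a) * (X - (-C (algebraMap K L (b / a)) - C θ) * Y) +
        C (algebraMap K L a)) * hX' - Y ^ 2 * hθC -
          (2 * X * Y + C (algebraMap K L (b / a)) * Y ^ 2 + 2 * C θ * Y ^ 2) * e3 -
          C (algebraMap K L a) * h1T
  exact core hK θ hL σ (by rw [hσθ]; exact hne) φ hinj' hfix hT G fun g hg k => by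
    change g (φK k) = φK k
    rw [← hsmul, hG g hg, map_one]

end Groth.L15.PuncP1
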